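import Groth.Agent.Lib.OX.Exact
import Groth.Agent.Lib.OX.PullbackStalk
import Groth.Agent.Lib.QCoh.FT
import Groth.Agent.Lib.FlatFP.Sheaf
import Groth.Agent.Lib.WeakAss.Basic
import Groth.Agent.Lib.ConsLim.LimFlat
import Groth.Agent.Lib.Neutral.Limit
import Groth.Prelude.Def_CohB1
import Mathlib.RingTheory.Flat.FaithfullyFlat.Basic

/-!
# Exactness of inverse images along flat morphisms, pointwise, and its descent along limits
-/

set_option autoImplicit false
set_option backward.isDefEq.respectTransparency false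
set_option linter.all false

universe u

open CategoryTheory CategoryTheory.Limits AlgebraicGeometry Opposite TopologicalSpace

noncomputable section

namespace GrothLib.LimExact8

open GrothLib.OX (stalk)

variable {X Y : Scheme.{u}}

/-- The locus where a morphism out of a quasi-coherent module of finite type vanishes is open. -/
theorem isOpen_stalk_map_eq_zero {E G : X.Modules} [E.IsQuasicoherent] (hE : CohB1.IsFT E) (v : E ⟶ G) :
    IsOpen {z : X | (stalk z).map v = 0} := by
  classical
  refine isOpen_iff_forall_mem_open.2 fun x (hx : (stalk x).map v = 0) => ?_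
  obtain ⟨_, ⟨V, hV, rfl⟩, hxV, -⟩ :=
    X.isBasis_affineOpens.exists_subset_of_mem_open (Set.mem_univ x) isOpen_univ
  obtain ⟨s, hs⟩ := ((QCoh.isFiniteType_iff_moduleFinite E).1 hE V hV).fg_top
  let w : Γ(E, V) → Γ(G, V) := fun m => (DCoh.toP.map v).app (op V) m
  have hloc : ∀ m : Γ(E, V), ∃ W : X.Opens, x ∈ W ∧ W ≤ V ∧
      ∀ (z : X) (hz : z ∈ W) (hzV : z ∈ V), OX.germ (DCoh.toP.obj G) V hzV (w m) = 0 := fun m => by
    have h0 : OX.germ (DCoh.toP.obj G) V hxV (w m) = 0 := by
      refine (OX.stalkPre_map_germ (DCoh.toP.map v) V hxV m).symm.trans ?_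
      exact congr($(hx).hom (OX.germ (DCoh.toP.obj E) V hxV m))
    obtain ⟨W, hW, iU, iV, e⟩ := TopCat.Presheaf.germ_eq (OX.prs (DCoh.toP.obj G)) x hxV hxV _ 0
      (h0.trans (map_zero (OX.germ (DCoh.toP.obj G) V hxV)).symm)
    refine ⟨W, hW, iU.le, fun z hz hzV => ?_⟩
    refine (OX.germ_map (DCoh.toP.obj G) iU hz (w m)).symm.trans ?_
    exact (congrArg (OX.germ (DCoh.toP.obj G) W hz) (e.trans (map_zero ((OX.prs (DCoh.toP.obj G)).map iV.op).hom))).trans
      (map_zero _)
  choose W hxW hWV hW using hloc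
  let O : X.Opens := V ⊓ s.inf W
  refine ⟨O, fun z hz => ?_, O.isOpen, hxV, ?_⟩
  · obtain ⟨hzV, hzs⟩ := hz
    have hm : ∀ m : Γ(E, V), ((stalk z).map v).hom (OX.germ (DCoh.toP.obj E) V hzV m) = 0 := by
      intro m
      have hspan : m ∈ Submodule.span Γ(X, V) (s : Set Γ(E, V)) := by rw [hs]; trivial
      induction hspan using Submodule.span_induction with
      | mem a ha =>
        exact (OX.stalkPre_map_germ (DCoh.toP.map v) V hzV a).trans
          (hW a z ((show s.inf W ≤ W a from Finset.inf_le ha) hzs) hzV)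
      | zero => rw [map_zero, map_zero]
      | add a b _ _ h1 h2 => rw [map_add, map_add, h1, h2, add_zero]
      | smul r a _ h1 =>
        rw [show OX.germ (DCoh.toP.obj E) V hzV (r • a) = _ from OX.germ_smul' (DCoh.toP.obj E) V hzV r a,
          map_smul, h1, smul_zero]
    refine ModuleCat.hom_ext (LinearMap.ext fun e => ?_)
    obtain ⟨U, hzU, m, rfl⟩ := OX.germ_exists _ e
    obtain ⟨c, m', hc, hcm⟩ := WeakAss.exists_smul_eq_germ hV hzV (OX.germ (DCoh.toP.obj E) U hzU m)
    have hu : IsUnit (X.presheaf.germ V z hzV c) :=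
      (Scheme.mem_basicOpen _ c z hzV).mp (WeakAss.notMem_primeAt_iff.mp hc)
    refine hu.smul_eq_zero.mp (((((stalk z).map v).hom.map_smul _ _).symm.trans ?_))
    exact (congrArg ((stalk z).map v).hom hcm).trans (hm m')
  · exact (Finset.inf_induction (p := fun U : X.Opens => x ∈ U) trivial
      (fun U hU U' hU' => ⟨hU, hU'⟩) fun a _ => hxW a)

section flat

variable (f : Y ⟶ X) [Flat f] (y : Y)

theorem faithfullyFlat_stalkMap :
    letI := (f.stalkMap y).hom.toAlgebra
    Module.FaithfullyFlat (X.presheaf.stalk (f y)) (Y.presheaf.stalk y) := by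
  letI := (f.stalkMap y).hom.toAlgebra
  haveI : Module.Flat (X.presheaf.stalk (f y)) (Y.presheaf.stalk y) := Flat.iff_flat_stalkMap f |>.mp inferInstance y
  haveI : IsLocalHom (algebraMap (X.presheaf.stalk (f y)) (Y.presheaf.stalk y)) :=
    inferInstanceAs (IsLocalHom (f.stalkMap y).hom)
  exact Module.FaithfullyFlat.of_flat_of_isLocalHom

theorem exact_iff_of_comp_eq_zero {F G H : X.Modules} (f₀ : F ⟶ G) (g₀ : G ⟶ H)
    (h0 : (stalk (f y)).map f₀ ≫ (stalk (f y)).map g₀ = 0)
    (w : (Scheme.Modules.pullback f).map f₀ ≫ (Scheme.Modules.pullback f).map g₀ = 0) :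
    ((ShortComplex.mk _ _ w).map (stalk y)).Exact ↔ (ShortComplex.mk _ _ h0).Exact := by
  letI := (f.stalkMap y).hom.toAlgebra
  haveI := faithfullyFlat_stalkMap f y
  let ν := OX.pullStalkIso f y
  haveI : (ModuleCat.extendScalars.{u, u, u} (f.stalkMap y).hom).Additive :=
    (ModuleCat.extendRestrictScalarsAdj.{u} (f.stalkMap y).hom).left_adjoint_additive
  let e : (ShortComplex.mk _ _ w).map (stalk y) ≅
      (ShortComplex.mk _ _ h0).map (ModuleCat.extendScalars.{u, u, u} (f.stalkMap y).hom) :=
    ShortComplex.isoMk (ν.app F) (ν.app G) (ν.app H) (ν.hom.naturality f₀).symm (ν.hom.naturality g₀).symm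
  rw [ShortComplex.exact_iff_of_iso e, ShortComplex.ShortExact.moduleCat_exact_iff_function_exact,
    ShortComplex.ShortExact.moduleCat_exact_iff_function_exact]
  exact Module.FaithfullyFlat.lTensor_exact_iff_exact (X.presheaf.stalk (f y)) (Y.presheaf.stalk y)
    ((stalk (f y)).map f₀).hom ((stalk (f y)).map g₀).hom

theorem exact_stalk_pullback_iff (T : ShortComplex X.Modules)
    [(Scheme.Modules.pullback f).Additive] :
    ((T.map (Scheme.Modules.pullback f)).map (stalk y)).Exact ↔ (T.map (stalk (f y))).Exact :=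
  exact_iff_of_comp_eq_zero f y T.f T.g _ _

theorem stalk_map_pullback_eq_zero_iff {M N : X.Modules} (v : M ⟶ N) :
    (stalk y).map ((Scheme.Modules.pullback f).map v) = 0 ↔ (stalk (f y)).map v = 0 := by
  letI := (f.stalkMap y).hom.toAlgebra
  haveI := faithfullyFlat_stalkMap f y
  let ν := OX.pullStalkIso f y
  let E := ModuleCat.extendScalars.{u, u, u} (f.stalkMap y).hom
  let a := (stalk (f y)).map v
  have h : (stalk y).map ((Scheme.Modules.pullback f).map v) = (ν.app M).hom ≫ E.map a ≫ (ν.app N).inv := by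
    rw [← Category.assoc, Iso.eq_comp_inv]
    exact ν.hom.naturality v
  have hE : (stalk y).map ((Scheme.Modules.pullback f).map v) = 0 ↔ E.map a = 0 := by
    rw [h]
    refine ⟨fun h0 => ?_, fun h0 => by rw [h0, zero_comp, comp_zero]⟩
    have h2 := congrArg (fun q => (ν.app M).inv ≫ q ≫ (ν.app N).hom) h0
    simpa using h2
  rw [hE]
  constructor
  · intro h1
    refine ModuleCat.hom_ext ((Module.FaithfullyFlat.zero_iff_lTensor_zero (X.presheaf.stalk (f y))
      (Y.presheaf.stalk y) a.hom).mpr ?_)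
    exact LinearMap.ext fun z => congr($(h1).hom z)
  · intro h0
    haveI : E.Additive :=
      (ModuleCat.extendRestrictScalarsAdj.{u} (f.stalkMap y).hom).left_adjoint_additive
    show E.map a = 0
    rw [show a = 0 from h0, Functor.map_zero]

end flat

/-- Exactness at a point, as the vanishing of two morphisms. -/
theorem exact_stalk_iff {F G H : X.Modules} (f₀ : F ⟶ G) (g₀ : G ⟶ H) (z : X)
    (hfg : (stalk z).map f₀ ≫ (stalk z).map g₀ = 0) :
    (ShortComplex.mk _ _ hfg).Exact ↔ (stalk z).map (kernel.ι g₀ ≫ cokernel.π f₀) = 0 := by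
  haveI := OX.stalk_preservesFiniteLimits z
  rw [Functor.map_comp, ShortComplex.moduleCat_exact_iff]
  have hk : ∀ k : (stalk z).obj (kernel g₀), (stalk z).map g₀ ((stalk z).map (kernel.ι g₀) k) = 0 := fun k => by
    rw [← ModuleCat.comp_apply, ← Functor.map_comp, kernel.condition, Functor.map_zero]
    rfl
  have hker : ((ShortComplex.mk _ _ (kernel.condition g₀)).map (stalk z)).Exact :=
    (ShortComplex.exact_kernel g₀).map (stalk z)
  have hcok : ((ShortComplex.mk _ _ (cokernel.condition f₀)).map (stalk z)).Exact :=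
    (ShortComplex.exact_cokernel f₀).map (stalk z)
  constructor
  · intro h
    refine ModuleCat.hom_ext (LinearMap.ext fun k => ?_)
    obtain ⟨a, ha⟩ := h _ (hk k)
    show (stalk z).map (cokernel.π f₀) ((stalk z).map (kernel.ι g₀) k) = 0
    rw [← ha, ← ModuleCat.comp_apply, ← Functor.map_comp, cokernel.condition, Functor.map_zero]
    rfl
  · intro h b hb
    obtain ⟨k, hk'⟩ := (ShortComplex.moduleCat_exact_iff _).1 hker b hb
    refine (ShortComplex.moduleCat_exact_iff _).1 hcok b ?_
    rw [← hk']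
    exact congr($(h).hom k)

end GrothLib.LimExact8

namespace GrothLib.LimExact8

open GrothLib.OX (stalk)

section criteria

variable {X Y : Scheme.{u}} (f : Y ⟶ X) [Flat f]

theorem mono_pullback_iff {F G : X.Modules} (f₀ : F ⟶ G) :
    Mono ((Scheme.Modules.pullback f).map f₀) ↔ ∀ y : Y, (stalk (f y)).map (kernel.ι f₀) = 0 := by
  haveI : (Scheme.Modules.pullback f).Additive :=
    (Scheme.Modules.pullbackPushforwardAdjunction f).left_adjoint_additive
  constructor
  · intro hm y
    refine (stalk_map_pullback_eq_zero_iff f y _).1 ?_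
    rw [show (Scheme.Modules.pullback f).map (kernel.ι f₀) = 0 from (cancel_mono ((Scheme.Modules.pullback f).map f₀)).1
      (by rw [← Functor.map_comp, kernel.condition, Functor.map_zero, zero_comp]), Functor.map_zero]
  · intro h
    refine (OX.mono_iff _).2 fun y => ?_
    exact ((exact_stalk_pullback_iff f y (ShortComplex.mk _ _ (kernel.condition f₀))).2
      ((ShortComplex.exact_kernel f₀).map (stalk (f y)))).mono_g
      ((stalk_map_pullback_eq_zero_iff f y _).2 (h y))

theorem exact_pullback_iff {F G H : X.Modules} (f₀ : F ⟶ G) (g₀ : G ⟶ H) :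
    (∃ w : (Scheme.Modules.pullback f).map f₀ ≫ (Scheme.Modules.pullback f).map g₀ = 0,
        (ShortComplex.mk _ _ w).Exact) ↔
      ∀ y : Y, (stalk (f y)).map (image.ι f₀ ≫ g₀) = 0 ∧
        (stalk (f y)).map (kernel.ι g₀ ≫ cokernel.π f₀) = 0 := by
  have hz : ∀ y : Y, ((stalk (f y)).map f₀ ≫ (stalk (f y)).map g₀ = 0) ↔
      (stalk (f y)).map (image.ι f₀ ≫ g₀) = 0 := fun y => by
    haveI : Epi ((stalk (f y)).map (factorThruImage f₀)) := inferInstance
    rw [← cancel_epi ((stalk (f y)).map (factorThruImage f₀)), comp_zero, ← Functor.map_comp, ← Functor.map_comp,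
      image.fac_assoc]
  have hw : ∀ y : Y, (stalk y).map ((Scheme.Modules.pullback f).map f₀ ≫ (Scheme.Modules.pullback f).map g₀) = 0 ↔
      (stalk (f y)).map f₀ ≫ (stalk (f y)).map g₀ = 0 := fun y => by
    rw [← Functor.map_comp, ← Functor.map_comp]
    exact stalk_map_pullback_eq_zero_iff f y _
  haveI : (Scheme.Modules.pullback f).Additive :=
    (Scheme.Modules.pullbackPushforwardAdjunction f).left_adjoint_additive
  constructor
  · rintro ⟨w, hex⟩ y
    have h0 := (hw y).1 (by rw [w, Functor.map_zero])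
    refine ⟨(hz y).1 h0, (exact_stalk_iff f₀ g₀ (f y) h0).1 ?_⟩
    exact (exact_iff_of_comp_eq_zero f y f₀ g₀ h0 w).1 ((OX.exact_iff _).1 hex y)
  · intro h
    have w : (Scheme.Modules.pullback f).map f₀ ≫ (Scheme.Modules.pullback f).map g₀ = 0 :=
      (OX.eq_zero_iff _).2 fun y => (hw y).2 ((hz y).2 (h y).1)
    refine ⟨w, (OX.exact_iff _).2 fun y => ?_⟩
    have h0 := (hz y).2 (h y).1
    exact (exact_iff_of_comp_eq_zero f y f₀ g₀ h0 w).2 ((exact_stalk_iff f₀ g₀ (f y) h0).2 (h y).2)

end criteria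

end GrothLib.LimExact8
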